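import Mathlib.GroupTheory.Perm.Cycle.Type
import Mathlib.GroupTheory.Perm.Closure
import Mathlib.GroupTheory.GroupAction.Blocks
import Mathlib.GroupTheory.NoncommCoprod
import Cfsg.Prelude.Def_HallClasses
import Cfsg.Prelude.Def_OddOrderLocal
import Cfsg.Agent.Char.Burnside

/-!
Groups generated by few transpositions.
-/

set_option autoImplicit false
set_option linter.style.haveILetI false

namespace CfsgLib.Transpositions

open Equiv

/-- A labelling constant on the orbits of the group generated by `k` transpositions. -/
theorem exists_label {α : Type*} [Fintype α] [DecidableEq α] (L : List (Perm α))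
    (hL : ∀ t ∈ L, t.IsSwap) :
    ∃ f : α → α, (∀ t ∈ L, ∀ x, f (t x) = f x) ∧
      Fintype.card α ≤ (Finset.univ.image f).card + L.length := by
  induction L with
  | nil => exact ⟨id, by simp, by simp⟩
  | cons t L ih =>
    obtain ⟨f, hf, hcard⟩ := ih fun s hs => hL s (List.mem_cons_of_mem _ hs)
    obtain ⟨a, b, -, rfl⟩ := hL t (List.mem_cons_self)
    refine ⟨fun x => if f x = f b then f a else f x, fun s hs x => ?_, ?_⟩
    · rcases List.mem_cons.1 hs with rfl | hs
      · by_cases hxa : x = a
        · subst hxa
          simp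
        · by_cases hxb : x = b
          · subst hxb
            simp
          · rw [swap_apply_of_ne_of_ne hxa hxb]
      · simp only [hf s hs x]
    · have hsub : (Finset.univ.image f).erase (f b) ⊆
          Finset.univ.image fun x => if f x = f b then f a else f x := by
        intro y hy
        obtain ⟨hne, hy⟩ := Finset.mem_erase.1 hy
        obtain ⟨x, -, rfl⟩ := Finset.mem_image.1 hy
        exact Finset.mem_image.2 ⟨x, Finset.mem_univ _, if_neg hne⟩
      have h1 := Finset.card_le_card hsub
      rw [Finset.card_erase_of_mem (Finset.mem_image_of_mem _ (Finset.mem_univ b))] at h1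
      rw [List.length_cons]
      omega

/-- Fewer than `r - 1` transpositions of `r` points generate a group of order prime to `r`. -/
theorem not_dvd_card {r m : ℕ} (hr : r.Prime) (hm : m + 1 < r) (t : Fin m → Perm (Fin r))
    (ht : ∀ i, (t i).IsSwap) : ¬ r ∣ Nat.card (Subgroup.closure (Set.range t)) := by
  intro hd
  haveI := Fact.mk hr
  obtain ⟨g, hg⟩ := exists_prime_orderOf_dvd_card' (G := Subgroup.closure (Set.range t)) r hd
  obtain ⟨f, hf, hcard⟩ := exists_label (List.ofFn t) (by
    intro s hs
    obtain ⟨i, rfl⟩ := List.mem_ofFn.1 hs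
    exact ht i)
  rw [List.length_ofFn, Fintype.card_fin] at hcard
  have hinv : ∀ h ∈ Subgroup.closure (Set.range t), ∀ x, f (h x) = f x := by
    intro h hh
    induction hh using Subgroup.closure_induction with
    | mem s hs => exact hf s (List.mem_ofFn.2 hs)
    | one => simp
    | mul a b _ _ iha ihb => intro x; rw [Perm.mul_apply, iha, ihb]
    | inv a _ iha => intro x; rw [← iha (a⁻¹ x)]; simp
  have hg' : orderOf (g : Perm (Fin r)) = r := by rw [Subgroup.orderOf_coe, hg]
  have hc : (g : Perm (Fin r)).IsCycle :=
    Perm.isCycle_of_prime_order'' (by rwa [Fintype.card_fin]) (by rw [hg', Fintype.card_fin])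
  have hs : (g : Perm (Fin r)).support = Finset.univ := by
    apply Finset.eq_univ_of_card
    rw [← hc.orderOf, hg', Fintype.card_fin]
  have hone : (Finset.univ.image f).card ≤ 1 := by
    rw [Finset.card_le_one]
    intro u hu v hv
    obtain ⟨x, -, rfl⟩ := Finset.mem_image.1 hu
    obtain ⟨y, -, rfl⟩ := Finset.mem_image.1 hv
    obtain ⟨i, hi⟩ := hc.sameCycle (Perm.mem_support.1 (hs ▸ Finset.mem_univ x))
      (Perm.mem_support.1 (hs ▸ Finset.mem_univ y))
    rw [← hi, hinv _ (zpow_mem g.2 i)]
  omega

theorem pi_of_few {r m : ℕ} (hr : r.Prime) (hm : m + 1 < r) (π : Set ℕ)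
    (hπ : ∀ q : ℕ, q.Prime → q < r → q ∈ π) (t : Fin m → Perm (Fin r))
    (ht : ∀ i, (t i).IsSwap) : Cfsg.IsPiSubgroup π (Subgroup.closure (Set.range t)) := by
  intro q hq hd
  refine hπ q hq (lt_of_le_of_ne ?_ fun e => not_dvd_card hr hm t ht (e ▸ hd))
  have h1 : q ∣ r.factorial := by
    have := hd.trans (Subgroup.card_subgroup_dvd_card _)
    rwa [Nat.card_eq_fintype_card, Fintype.card_perm, Fintype.card_fin] at this
  exact (Nat.Prime.dvd_factorial hq).1 h1

theorem piCore_perm_eq_bot {r : ℕ} (hr : r.Prime) (π : Set ℕ) (hrπ : r ∉ π) :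
    Cfsg.piCore π (Perm (Fin r)) = ⊥ := by
  rw [Cfsg.piCore, sSup_eq_bot]
  rintro N ⟨hN, hNπ⟩
  haveI := hN
  rw [Subgroup.eq_bot_iff_forall]
  intro n hn
  by_contra hne
  obtain ⟨x, hx⟩ : ∃ x, n x ≠ x := by
    by_contra h
    push Not at h
    exact hne (Equiv.ext h)
  haveI : MulAction.IsPretransitive (Perm (Fin r)) (Fin r) :=
    ⟨fun a b => ⟨swap a b, swap_apply_left a b⟩⟩
  have hb : MulAction.IsBlock (Perm (Fin r)) (MulAction.orbit N x) :=
    MulAction.IsBlock.orbit_of_normal x
  have hd := hb.ncard_dvd_card ⟨x, MulAction.mem_orbit_self x⟩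
  rw [Nat.card_fin] at hd
  rcases (Nat.dvd_prime hr).1 hd with e | e
  · obtain ⟨z, hz⟩ := Set.ncard_eq_one.1 e
    have h1 : x ∈ MulAction.orbit N x := MulAction.mem_orbit_self x
    have h2 : n x ∈ MulAction.orbit N x := MulAction.mem_orbit x (⟨n, hn⟩ : N)
    rw [hz, Set.mem_singleton_iff] at h1 h2
    exact hx (h2.trans h1.symm)
  · refine hrπ (hNπ r hr ?_)
    refine e.symm.dvd.trans ?_
    rw [← MulAction.index_stabilizer]
    exact Subgroup.index_dvd_card _

theorem card_support_union {α : Type*} [DecidableEq α] [Fintype α] {a b : Perm α}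
    (ha : a.IsSwap) (hb : b.IsSwap) (h : ¬ Commute a b) : (a.support ∪ b.support).card ≤ 3 := by
  have hd : ¬ Disjoint a.support b.support := fun hd =>
    h (Perm.disjoint_iff_disjoint_support.2 hd).commute
  rw [Finset.not_disjoint_iff_nonempty_inter, ← Finset.card_pos] at hd
  have := Finset.card_union_add_card_inter a.support b.support
  rw [Perm.card_support_eq_two.2 ha, Perm.card_support_eq_two.2 hb] at this
  omega

theorem isSolvable_of_card_support {α : Type*} [DecidableEq α] [Fintype α] (S : Finset α)
    (hS : S.card ≤ 4) (H : Subgroup (Perm α)) (hH : ∀ h ∈ H, ∀ x, x ∉ S → h x = x) :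
    Group.IsSolvable H := by
  obtain ⟨a, b, hab⟩ : ∃ a b, Nat.card (Perm S) = 2 ^ a * 3 ^ b := by
    rw [Nat.card_eq_fintype_card, Fintype.card_perm, Fintype.card_coe]
    rcases (show S.card = 0 ∨ S.card = 1 ∨ S.card = 2 ∨ S.card = 3 ∨ S.card = 4 by omega) with
      e | e | e | e | e <;> rw [e]
    · exact ⟨0, 0, rfl⟩
    · exact ⟨0, 0, rfl⟩
    · exact ⟨1, 0, rfl⟩
    · exact ⟨1, 1, rfl⟩
    · exact ⟨3, 1, rfl⟩
  haveI := CfsgLib.Char.isSolvable_of_card_eq 2 3 a b Nat.prime_two Nat.prime_three hab
  have hle : H ≤ (Perm.ofSubtype (p := (· ∈ S))).range := by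
    intro h hh
    have hiff : ∀ x, x ∈ S ↔ h x ∈ S := by
      intro x
      constructor
      · intro hx
        by_contra hn
        have h1 : h (h x) = h x := hH h hh _ hn
        exact hn (by rwa [h.injective h1])
      · intro hx
        by_contra hn
        exact hn (hH h hh x hn ▸ hx)
    refine ⟨h.subtypePerm fun x => (hiff x).symm, Equiv.ext fun x => ?_⟩
    by_cases hx : x ∈ S
    · rw [Perm.ofSubtype_apply_of_mem _ hx]; rfl
    · rw [Perm.ofSubtype_apply_of_not_mem _ hx]; exact (hH h hh x hx).symm
  haveI : Group.IsSolvable (Perm.ofSubtype (p := (· ∈ S))).range :=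
    Group.isSolvable_of_surjective (MonoidHom.rangeRestrict_surjective _)
  exact Group.isSolvable_of_isSolvable_injective (Subgroup.inclusion_injective hle)

theorem closure_fix {α : Type*} [DecidableEq α] [Fintype α] (T : Set (Perm α)) (S : Finset α)
    (hT : ∀ t ∈ T, t.support ⊆ S) : ∀ h ∈ Subgroup.closure T, ∀ x, x ∉ S → h x = x := by
  intro h hh
  induction hh using Subgroup.closure_induction with
  | mem t ht => exact fun x hx => Perm.notMem_support.1 fun hxt => hx (hT t ht hxt)
  | one => simp
  | mul a b _ _ iha ihb => intro x hx; rw [Perm.mul_apply, ihb x hx, iha x hx]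
  | inv a _ iha => intro x hx; rw [Perm.inv_eq_iff_eq, iha x hx]

theorem isSolvable_of_commute {G : Type*} [Group G] (a : G) (B : Subgroup G) [Group.IsSolvable B]
    (hc : ∀ b ∈ B, Commute a b) (H : Subgroup G) (hH : H ≤ Subgroup.zpowers a ⊔ B) :
    Group.IsSolvable H := by
  have hc' : ∀ (u : Subgroup.zpowers a) (v : B),
      Commute ((Subgroup.zpowers a).subtype u) (B.subtype v) := by
    intro u v
    obtain ⟨i, hi⟩ := Subgroup.mem_zpowers_iff.1 u.2
    show Commute (u : G) (v : G)
    rw [← hi]
    exact (hc v v.2).zpow_left i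
  haveI : Group.IsSolvable (Subgroup.zpowers a) :=
    Group.isSolvable_of_comm fun u v => IsMulCommutative.is_comm.comm u v
  set f := MonoidHom.noncommCoprod (Subgroup.zpowers a).subtype B.subtype hc'
  have hle : H ≤ f.range := by
    rw [MonoidHom.noncommCoprod_range, Subgroup.range_subtype, Subgroup.range_subtype]
    exact hH
  haveI : Group.IsSolvable f.range := Group.isSolvable_of_surjective f.rangeRestrict_surjective
  exact Group.isSolvable_of_isSolvable_injective (Subgroup.inclusion_injective hle)

theorem isSolvable_three {α : Type*} [DecidableEq α] [Fintype α] (a b c : Perm α)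
    (ha : a.IsSwap) (hb : b.IsSwap) (hc : c.IsSwap) :
    Group.IsSolvable (Subgroup.closure ({a, b, c} : Set (Perm α))) := by
  classical
  -- one of the three commutes with the other two
  have central : ∀ x y z : Perm α, x.IsSwap → y.IsSwap → z.IsSwap →
      ({a, b, c} : Set (Perm α)) ⊆ {x, y, z} → Commute x y → Commute x z →
      Group.IsSolvable (Subgroup.closure ({a, b, c} : Set (Perm α))) := by
    intro x y z _ hy hz hsub hxy hxz
    haveI : Group.IsSolvable (Subgroup.closure ({y, z} : Set (Perm α))) := by
      refine isSolvable_of_card_support (y.support ∪ z.support) ?_ _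
        (closure_fix _ _ fun t ht => ?_)
      · have := Finset.card_union_le y.support z.support
        rw [Perm.card_support_eq_two.2 hy, Perm.card_support_eq_two.2 hz] at this
        omega
      · rcases ht with rfl | rfl
        · exact Finset.subset_union_left
        · exact Finset.subset_union_right
    refine isSolvable_of_commute x (Subgroup.closure {y, z}) (fun v hv => ?_) _ ?_
    · refine (Subgroup.mem_centralizer_singleton_iff.1 ((Subgroup.closure_le _).2 ?_ hv)).symm
      rintro _ (rfl | rfl)
      · exact Subgroup.mem_centralizer_singleton_iff.2 hxy.eq.symm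
      · exact Subgroup.mem_centralizer_singleton_iff.2 hxz.eq.symm
    · rw [Subgroup.closure_le]
      intro t ht
      rcases hsub ht with rfl | rfl | rfl
      · exact Subgroup.mem_sup_left (Subgroup.mem_zpowers t)
      · exact Subgroup.mem_sup_right (Subgroup.subset_closure (Or.inl rfl))
      · exact Subgroup.mem_sup_right (Subgroup.subset_closure (Or.inr rfl))
  -- otherwise all three live on four points
  have small : ∀ x y z : Perm α, x.IsSwap → y.IsSwap → z.IsSwap →
      ({a, b, c} : Set (Perm α)) ⊆ {x, y, z} → ¬ Commute x y → ¬ Commute x z →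
      Group.IsSolvable (Subgroup.closure ({a, b, c} : Set (Perm α))) := by
    intro x y z hx hy hz hsub hxy hxz
    refine isSolvable_of_card_support ((x.support ∪ y.support) ∪ (x.support ∪ z.support)) ?_ _
      (closure_fix _ _ fun t ht => ?_)
    · have h1 := card_support_union hx hy hxy
      have h2 := card_support_union hx hz hxz
      have h3 := Finset.card_union_add_card_inter (x.support ∪ y.support) (x.support ∪ z.support)
      have h4 : x.support.card ≤ ((x.support ∪ y.support) ∩ (x.support ∪ z.support)).card :=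
        Finset.card_le_card (Finset.subset_inter Finset.subset_union_left Finset.subset_union_left)
      rw [Perm.card_support_eq_two.2 hx] at h4
      omega
    · rcases hsub ht with rfl | rfl | rfl <;> intro p hp <;> simp [hp]
  have hs1 : ({a, b, c} : Set (Perm α)) ⊆ {a, b, c} := subset_rfl
  have hs2 : ({a, b, c} : Set (Perm α)) ⊆ {b, a, c} := by rintro t (rfl | rfl | rfl) <;> simp
  have hs3 : ({a, b, c} : Set (Perm α)) ⊆ {c, a, b} := by rintro t (rfl | rfl | rfl) <;> simp
  by_cases hab : Commute a b <;> by_cases hac : Commute a c <;> by_cases hbc : Commute b c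
  · exact central a b c ha hb hc hs1 hab hac
  · exact central a b c ha hb hc hs1 hab hac
  · exact central b a c hb ha hc hs2 hab.symm hbc
  · exact small c a b hc ha hb hs3 (fun h => hac h.symm) (fun h => hbc h.symm)
  · exact central c a b hc ha hb hs3 hac.symm hbc.symm
  · exact small b a c hb ha hc hs2 (fun h => hab h.symm) hbc
  · exact small a b c ha hb hc hs1 hab hac
  · exact small a b c ha hb hc hs1 hab hac

end CfsgLib.Transpositions
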